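import Cfsg.Agent.Helper61.Sr.P2

/-!
# S3572 piece (NPodd) for helper61's S-ring farm (#12003)
-/

set_option autoImplicit false
set_option linter.unusedSectionVars false
set_option linter.unusedVariables false

namespace Cfsg.Agent.Helper79.Sr

open Finset DihedralGroup Cfsg.Agent.Helper61.Dih Cfsg.Agent.Helper61.Sr

variable {n : ℕ} [NeZero n] (S : SRing (DihedralGroup n))

/-- the image of a finite subgroup containing an element of order `p` under `x ↦ p • x` is
smaller -/
theorem NPodd_aux_card_map_lt {n : ℕ} [NeZero n] (K : AddSubgroup (ZMod n)) (p : ℕ) [Fact p.Prime]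
    (hpK : p ∣ Nat.card K) :
    Nat.card (K.map (nsmulAddMonoidHom (α := ZMod n) p)) < Nat.card K := by
  classical
  obtain ⟨k, hk⟩ := exists_prime_addOrderOf_dvd_card' (G := K) p hpK
  have hk0 : k ≠ 0 := by
    rintro rfl
    rw [addOrderOf_zero] at hk
    exact (Fact.out : p.Prime).one_lt.ne hk
  have hpk : p • k = 0 := by rw [← hk]; exact addOrderOf_nsmul_eq_zero k
  let g : K → K.map (nsmulAddMonoidHom (α := ZMod n) p) := fun x =>
    ⟨nsmulAddMonoidHom (α := ZMod n) p x, AddSubgroup.mem_map_of_mem _ x.2⟩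
  have hsurj : Function.Surjective g := by
    rintro ⟨y, hy⟩
    obtain ⟨x, hx, rfl⟩ := AddSubgroup.mem_map.mp hy
    exact ⟨⟨x, hx⟩, rfl⟩
  have hninj : ¬ Function.Injective g := by
    intro hinj
    apply hk0
    apply hinj
    apply Subtype.ext
    show nsmulAddMonoidHom (α := ZMod n) p (k : ZMod n) = nsmulAddMonoidHom (α := ZMod n) p ((0 : K) : ZMod n)
    simp only [nsmulAddMonoidHom_apply, ZeroMemClass.coe_zero, smul_zero]
    have := congrArg (Subtype.val) hpk
    simpa using this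
  rw [Nat.card_eq_fintype_card, Nat.card_eq_fintype_card]
  exact Fintype.card_lt_of_surjective_not_injective g hsurj hninj

theorem NPodd_aux_unit_mul_mem {n : ℕ} [NeZero n] (K : AddSubgroup (ZMod n)) (u : ZMod n) {i : ZMod n}
    (hi : i ∈ K) : u * i ∈ K := by
  have : u * i = u.val • i := by
    rw [nsmul_eq_mul, ZMod.natCast_zmod_val]
  rw [this]
  exact K.nsmul_mem hi _

/-- (NPodd) -/
theorem NPodd (hn : 3 ≤ n) (hS : S.IsPrim) (K : AddSubgroup (ZMod n)) (hK : K ≠ ⊤) (p : ℕ)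
    [Fact p.Prime] (hp2 : p ≠ 2) (hpK : p ∣ Nat.card K)
    (IH : ∀ K' : AddSubgroup (ZMod n), Nat.card K' < Nat.card K →
      ∀ T : Finset (DihedralGroup n), S.IsSet T → T.Nonempty → (1 : DihedralGroup n) ∉ T →
        (∀ i ∈ rotPart T, i ∈ K') → False)
    (T : Finset (DihedralGroup n)) (hT : S.IsSet T) (hne : T.Nonempty)
    (h1 : (1 : DihedralGroup n) ∉ T) (hAK : ∀ i ∈ rotPart T, i ∈ K) : False := by
  have hpn : p ∣ n := by
    have h := AddSubgroup.card_addSubgroup_dvd_card K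
    rw [Nat.card_zmod] at h
    exact hpK.trans h
  obtain ⟨R, hR, h1R, hrot⟩ := RAT S hn hS T hT h1
  obtain ⟨i₀, hi₀⟩ := F1' S (by omega) hS T hT hne h1
  have hi₀R : i₀ ∈ rotPart R := (hrot i₀).mpr ⟨1, i₀, mem_rotPart.mpr hi₀, by simp⟩
  have hneR : R.Nonempty := ⟨r i₀, mem_rotPart.mp hi₀R⟩
  have hAKR : ∀ i ∈ rotPart R, i ∈ K := by
    intro y hy
    obtain ⟨u, i, hi, rfl⟩ := (hrot y).mp hy
    exact NPodd_aux_unit_mul_mem K _ (hAK i hi)
  have hrat : Rational (rotPart R) := by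
    intro v y hy
    obtain ⟨u, i, hi, rfl⟩ := (hrot y).mp hy
    exact (hrot _).mpr ⟨v * u, i, hi, by push_cast; ring⟩
  have hlt := NPodd_aux_card_map_lt K p hpK
  have hemp : ∀ T' : Finset (DihedralGroup n), S.IsSet T' → (1 : DihedralGroup n) ∉ T' →
      (∀ i ∈ rotPart T', ∃ x ∈ rotPart R, p • x = i) → T' = ∅ := by
    intro T' hT' h1' hsub
    by_contra hne'
    refine IH _ hlt T' hT' (Finset.nonempty_iff_ne_empty.mpr hne') h1' ?_
    intro i hi
    obtain ⟨x, hx, rfl⟩ := hsub i hi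
    exact AddSubgroup.mem_map.mpr ⟨x, hAKR x hx, rfl⟩
  have hperR : PerOff p (rotPart R) := perOff_of_empty S hn hS p hp2 hpn R hR hemp
  exact NPfin S hn hS p hpn K hK R hR hneR h1R hAKR hperR (rational_tor p hpn (rotPart R) hrat)

end Cfsg.Agent.Helper79.Sr
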