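import Cfsg.Agent.Helper79.Sr.RC1_of

/-!
# S3572 piece (RC1_of), VERBATIM Skel statement (now that `C3` is in `Helper61.Sr.P2`)
-/

set_option autoImplicit false
set_option linter.unusedSectionVars false
set_option linter.unusedVariables false

namespace Cfsg.Agent.Helper79.Sr

open Finset DihedralGroup Cfsg.Agent.Helper61.Dih Cfsg.Agent.Helper61.Sr

variable {n : ℕ} [NeZero n] (S : SRing (DihedralGroup n))

/-- (RC1), verbatim Skel statement -/
theorem RC1_of' (hn : 3 ≤ n) (hS : S.IsPrim) (p : ℕ) [Fact p.Prime] (hp2 : p ≠ 2) (hpn : p ∣ n)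
    (hper : ∀ T : Finset (DihedralGroup n), S.IsSet T → PerOff p (rotPart T))
    (T : Finset (DihedralGroup n)) (hT : S.IsSet T) (hne : T.Nonempty)
    (h1 : (1 : DihedralGroup n) ∉ T) (x : ZMod n) (hx : x ≠ 0) :
    ∃ u : (ZMod n)ˣ, ∃ i ∈ rotPart T, (u : ZMod n) * i = x :=
  RC1_of S hn hS p hp2 hpn (fun T hT hne h1 hA => C3 S hn hS p hp2 hpn T hT hne h1 hA)
    hper T hT hne h1 x hx

end Cfsg.Agent.Helper79.Sr
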