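import Cfsg.Agent.Helper61.Sr.P2

/-!
# S3572 piece (RC1_of) for helper61's S-ring farm (#12003)
-/

set_option autoImplicit false
set_option linter.unusedSectionVars false
set_option linter.unusedVariables false

namespace Cfsg.Agent.Helper79.Sr

open Finset DihedralGroup Cfsg.Agent.Helper61.Dih Cfsg.Agent.Helper61.Sr

variable {n : ℕ} [NeZero n] (S : SRing (DihedralGroup n))

theorem RC1_aux_r_eq_one {n : ℕ} (x : ZMod n) : (r x : DihedralGroup n) = 1 ↔ x = 0 := by
  rw [one_def]
  constructor
  · intro h; injection h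
  · intro h; rw [h]

theorem RC1_aux_tor_add {n : ℕ} {p : ℕ} {x u : ZMod n} (hu : p • u = 0) :
    p • (x + u) = 0 ↔ p • x = 0 := by
  rw [smul_add, hu, add_zero]

/-- (RC1), with (C3) as the extra hypothesis `hC3` (the statement of
`Cfsg.Agent.Helper61.Sr.C3 S hn hS p hp2 hpn`), as allowed in helper61's ANNOUNCE-3 -/
theorem RC1_of (hn : 3 ≤ n) (hS : S.IsPrim) (p : ℕ) [Fact p.Prime] (hp2 : p ≠ 2) (hpn : p ∣ n)
    (hC3 : ∀ T : Finset (DihedralGroup n), S.IsSet T → T.Nonempty →
      (1 : DihedralGroup n) ∉ T → Per p (rotPart T) → False)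
    (hper : ∀ T : Finset (DihedralGroup n), S.IsSet T → PerOff p (rotPart T))
    (T : Finset (DihedralGroup n)) (hT : S.IsSet T) (hne : T.Nonempty)
    (h1 : (1 : DihedralGroup n) ∉ T) (x : ZMod n) (hx : x ≠ 0) :
    ∃ u : (ZMod n)ˣ, ∃ i ∈ rotPart T, (u : ZMod n) * i = x := by
  obtain ⟨R, hR, h1R, hrot⟩ := RAT S hn hS T hT h1
  rw [← hrot x]
  -- basic facts about `R`
  have h0R : (0 : ZMod n) ∉ rotPart R := by
    rw [mem_rotPart, ← one_def]; exact h1R
  obtain ⟨i₀, hi₀⟩ := F1' S (by omega) hS T hT hne h1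
  have hi₀R : i₀ ∈ rotPart R := (hrot i₀).mpr ⟨1, i₀, mem_rotPart.mpr hi₀, by simp⟩
  have hneR : R.Nonempty := ⟨r i₀, mem_rotPart.mp hi₀R⟩
  have hrat : Rational (rotPart R) := by
    intro v y hy
    obtain ⟨u, i, hi, rfl⟩ := (hrot y).mp hy
    exact (hrot _).mpr ⟨v * u, i, hi, by push_cast; ring⟩
  have hperR : PerOff p (rotPart R) := hper R hR
  rcases rational_tor p hpn (rotPart R) hrat with hout | hin
  · -- the torsion is outside: `rotPart R` is periodic, contradiction with C3
    exfalso
    have htor : ∀ y : ZMod n, p • y = 0 → y ∉ rotPart R := by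
      intro y hy
      by_cases hy0 : y = 0
      · rw [hy0]; exact h0R
      · exact hout y hy hy0
    have hPer : Per p (rotPart R) := by
      intro y u hu
      by_cases hy : p • y = 0
      · have hyu : p • (y + u) = 0 := (RC1_aux_tor_add hu).mpr hy
        exact ⟨fun h => absurd h (htor y hy), fun h => absurd h (htor _ hyu)⟩
      · exact hperR y u hu hy
    exact hC3 R hR hneR h1R hPer
  · -- the torsion is inside: the complement is periodic, hence empty
    classical
    set S' : Finset (DihedralGroup n) := univ \ insert 1 R with hS'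
    have hS'set : S.IsSet S' := isSet_sdiff S (isSet_univ S) (isSet_insert_one S hR)
    have h1S' : (1 : DihedralGroup n) ∉ S' := by
      rw [hS']; simp
    have hmem : ∀ y : ZMod n, y ∈ rotPart S' ↔ (y ≠ 0 ∧ y ∉ rotPart R) := by
      intro y
      rw [mem_rotPart, mem_rotPart, hS', mem_sdiff, mem_insert, not_or, RC1_aux_r_eq_one]
      simp
    have htor : ∀ y : ZMod n, p • y = 0 → y ∉ rotPart S' := by
      intro y hy hyS
      rw [hmem] at hyS
      exact hyS.2 (hin y hy hyS.1)
    have hPer : Per p (rotPart S') := by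
      intro y u hu
      by_cases hy : p • y = 0
      · have hyu : p • (y + u) = 0 := (RC1_aux_tor_add hu).mpr hy
        exact ⟨fun h => absurd h (htor y hy), fun h => absurd h (htor _ hyu)⟩
      · have hyu : p • (y + u) ≠ 0 := fun h => hy ((RC1_aux_tor_add hu).mp h)
        have hy0 : y ≠ 0 := by rintro rfl; exact hy (smul_zero p)
        have hyu0 : y + u ≠ 0 := by intro h; rw [h] at hyu; exact hyu (smul_zero p)
        rw [hmem, hmem]
        have := hperR y u hu hy
        constructor
        · rintro ⟨_, h⟩; exact ⟨hyu0, fun h' => h (this.mpr h')⟩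
        · rintro ⟨_, h⟩; exact ⟨hy0, fun h' => h (this.mp h')⟩
    have hemp : S' = ∅ := by
      by_contra hne'
      exact hC3 S' hS'set (Finset.nonempty_iff_ne_empty.mpr hne') h1S' hPer
    by_contra hxR
    have : x ∈ rotPart S' := (hmem x).mpr ⟨hx, hxR⟩
    rw [mem_rotPart, hemp] at this
    exact absurd this (Finset.notMem_empty _)

end Cfsg.Agent.Helper79.Sr
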